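import Cfsg.Agent.H434.Inv.Perf
import Cfsg.Agent.H973.Inv.TwNode
import Cfsg.Agent.Nodes.RGDTwActE6

/-!
# The components `M_J` of the Levi subgroups of `²E₆(q)`, `q` odd (helper434, S3830, O9b)

* `pair_fold` : two nodes `i`, `j` of a folded group: an involution of `⟨X_j, X_{-j}⟩` inverts `X_i`;
* `comp_perf_twE6` : `M_J` is perfect (`J` connected, at least two nodes);
* `comp_invol_twE6` : `M_J` contains a non-central involution.
-/

set_option autoImplicit false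
set_option linter.unusedSectionVars false

namespace Cfsg.Agent.H434.Inv

open CoxeterSystem Cfsg.Agent.ChevalleyStructure.CoxeterGeom Cfsg.Agent.Tits.Roots Cfsg.Agent.Tits.Core
  Cfsg.Agent.Nodes.BNOf Cfsg.Agent.Nodes.RGDTwGen Cfsg.Agent.Nodes.RGDChev Cfsg.Agent.Nodes.RGDFold
  Cfsg.Agent.Nodes.RGDFoldSL Cfsg.Agent.Nodes.Reps Cfsg.Agent.H53.HC Cfsg.Agent.Nodes.StabComb
open Cfsg.Lie Cfsg.Agent.ChevalleyStructure Cfsg.Agent.ChevalleyStructure.Elts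
  Cfsg.Agent.ChevalleyStructure.TwistedU Cfsg.Agent.ChevalleyStructure.TwistedFix
open Cfsg.Agent.ChevalleyStructure.SL2Hom (up lo)
open Cfsg.Agent.H973.Inv (hv_lo conj_yv conj_prod_h_odd hv_hS_neg hS_neg_one_sq coe_Phi_lo)
open scoped commutatorElement

universe u

theorem up_add' {F : Type*} [Field F] (a b : F) : (up a : Matrix.SpecialLinearGroup (Fin 2) F) * up b = up (a + b) := by
  apply Subtype.ext
  rw [Matrix.SpecialLinearGroup.coe_mul]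
  show (!![1, a; 0, 1] : Matrix (Fin 2) (Fin 2) F) * !![1, b; 0, 1] = !![1, a + b; 0, 1]
  rw [Matrix.mul_fin_two]
  ext i j
  fin_cases i <;> fin_cases j <;> simp [add_comm]

theorem up_zero' {F : Type*} [Field F] : (up 0 : Matrix.SpecialLinearGroup (Fin 2) F) = 1 := by
  apply Subtype.ext
  rw [Matrix.SpecialLinearGroup.coe_one, Matrix.one_fin_two]
  rfl

section Node

variable {D : ChevalleyDatum} {l : ℕ} {M' : CoxeterMatrix (Fin l)} {hp : IsType D l M'} {K : Type} [Field K] {m : ℕ}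
  {J : Fin m → List (Fin l)} {L : List (List ℕ)} {σ : GL D.Idx K →* GL D.Idx K} {ρ ρ' : ℕ → ℕ}
    {f : ℕ → K → K} {G : Subgroup (GL D.Idx K)} {i : Fin m} {r : ℕ} {o : List ℕ} {φ : K →+* K}

/-- `y` inverts `X_i`, is an involution and lies in `⟨X_j, X_{-j}⟩`; the elements of `X_i` are squares -/
def Pair {Y : Type*} [Group Y] (X : (Fin m → ℤ) → Subgroup Y) (i j : Fin m) : Prop :=
  (∃ y ∈ X (sr j) ⊔ X (-sr j), orderOf y = 2 ∧ ∀ u ∈ X (sr i), y * u * y⁻¹ = u⁻¹) ∧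
    (∀ u ∈ X (sr i), ∃ v ∈ X (sr i), v * v = u) ∧ ∃ u ∈ X (sr i), u ≠ u⁻¹

/-- **Two nodes of a folded group in odd characteristic.** -/
theorem pair_fold [Finite K] (h2 : (2 : K) ≠ 0) {W : Type*} [Group W] {M : CoxeterMatrix (Fin m)}
    {cs : CoxeterSystem M W} {A : Fin m → Fin m → ℤ} {h : IsCartan M A} {p : ℕ}
    (FG : FoldGrp hp K J L σ ρ ρ' f G) (N : NodeOK D J L ρ i r o) (hf : ∀ s ∈ r :: o, ∀ t, f s t = φ t)
    (R : RGD cs h p ((D.diagonalSubgroup K ⊓ G).subgroupOf G) (fun i => (⟨nI hp K (J i), FG.nG i⟩ : ↥G))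
      (fun z => (R D hp K J σ z).subgroupOf G))
    {j : Fin m} {r' : ℕ} {o' : List ℕ} (N' : NodeOK D J L ρ j r' o') (hf' : ∀ s ∈ r' :: o', ∀ t, f s t = φ t)
    (hrk : ∀ k ∈ (J j).map (fun k : Fin l => (k : ℕ)), k < D.rank)
    (hpos : ∀ s ∈ r :: o, Odd (((J j).map (fun k : Fin l => (k : ℕ))).map fun k => D.cartan k s).sum) :
    Pair (fun z => (Cfsg.Agent.Nodes.RGDFold.R D hp K J σ z).subgroupOf G) i j := by
  have hsn := hS_neg_one_sq (F := Fx φ (o'.length + 1))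
  set y : ↥G := Phi FG N' hf' (hS (-1)) with hy
  have hcy : (y : GL D.Idx K) =
      (((J j).map (fun k : Fin l => (k : ℕ))).map fun k => hG hp.inList (D.simple k) (-1 : K)).prod := by
    rw [hy]
    show Ph hp K N' φ (Matrix.SpecialLinearGroup.map _ (hS (-1))) = _
    rw [map_hS, map_neg, map_one]
    show hv (psi hp.inList K) φ (r' :: o') (hS (-1)) = _
    rw [hv_hS_neg hp.inList φ N'.lt, ← N'.Jn, List.map_map, List.map_map]
    rfl
  have h2F : (2 : Fx φ (o.length + 1)) ≠ 0 := by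
    intro h
    exact h2 (congrArg (fun x : Fx φ (o.length + 1) => (x : K)) h)
  have hup : ∀ a, y * Phi FG N hf (up a) * y⁻¹ = Phi FG N hf (up (-a)) := by
    intro a
    apply Subtype.ext
    rw [Subgroup.coe_mul, Subgroup.coe_mul, Subgroup.coe_inv, coe_Phi_up, coe_Phi_up, hcy]
    exact conj_yv (fun s hs t => conj_prod_h_odd hp.inList hrk (N.lt s hs) (hpos s hs) t) _
  have hmem : ∀ g : ↥G, g ∈ (Cfsg.Agent.Nodes.RGDFold.R D hp K J σ (sr i)).subgroupOf G ↔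
      ∃ a, g = Phi FG N hf (up a) := mem_X_iff FG N hf
  have hadd : ∀ a b : Fx φ (o.length + 1), Phi FG N hf (up a) * Phi FG N hf (up b) = Phi FG N hf (up (a + b)) := by
    intro a b
    rw [← map_mul, up_add']
  have hinv : ∀ a : Fx φ (o.length + 1), (Phi FG N hf (up a))⁻¹ = Phi FG N hf (up (-a)) := by
    intro a
    rw [inv_eq_iff_mul_eq_one, hadd, add_neg_cancel]
    rw [up_zero', map_one]
  have hup_mem : ∀ a, Phi FG N' hf' (up a) ∈ (Cfsg.Agent.Nodes.RGDFold.R D hp K J σ (sr j)).subgroupOf G :=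
    fun a => (mem_X_iff FG N' hf' _).2 ⟨a, rfl⟩
  have hlo_mem : ∀ a, Phi FG N' hf' (lo a) ∈ (Cfsg.Agent.Nodes.RGDFold.R D hp K J σ (-sr j)).subgroupOf G := by
    intro a
    have h1 := R.conj j _ (isRoot_sr cs h j)
    rw [rep_simple_sr] at h1
    rw [← h1, mem_cj]
    have hw := Phi_wS FG N' hf'
    refine (mem_X_iff FG N' hf' _).2 ⟨-a, ?_⟩
    rw [lo_eq, map_mul, map_mul, map_inv, hw]
    group
  have hne : ∃ u ∈ (Cfsg.Agent.Nodes.RGDFold.R D hp K J σ (sr i)).subgroupOf G, u ≠ u⁻¹ := by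
    refine ⟨Phi FG N hf (up 1), (hmem _).2 ⟨1, rfl⟩, ?_⟩
    rw [hinv]
    intro h3
    have h4 := Phi_up_injective FG N hf h3
    apply h2F
    have h5 : (1 : Fx φ (o.length + 1)) + 1 = 0 := by
      nth_rewrite 1 [h4]
      exact neg_add_cancel 1
    rw [← h5]
    norm_num
  have hyinv : ∀ u ∈ (Cfsg.Agent.Nodes.RGDFold.R D hp K J σ (sr i)).subgroupOf G, y * u * y⁻¹ = u⁻¹ := by
    intro u hu
    obtain ⟨a, rfl⟩ := (hmem u).1 hu
    rw [hup, hinv]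
  refine ⟨⟨y, ?_, ?_, hyinv⟩, ?_, hne⟩
  · have hw : ∀ t, Phi FG N' hf' (wS t) ∈ (Cfsg.Agent.Nodes.RGDFold.R D hp K J σ (sr j)).subgroupOf G ⊔
        (Cfsg.Agent.Nodes.RGDFold.R D hp K J σ (-sr j)).subgroupOf G := by
      intro t
      unfold wS
      rw [map_mul, map_mul]
      exact mul_mem (Subgroup.mem_sup_left (hup_mem _))
        (mul_mem (Subgroup.mem_sup_right (hlo_mem _)) (Subgroup.mem_sup_left (hup_mem _)))
    rw [hy]
    unfold hS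
    rw [map_mul]
    exact mul_mem (hw _) (hw _)
  · have : Fact (Nat.Prime 2) := ⟨Nat.prime_two⟩
    refine orderOf_eq_prime (by rw [pow_two, hy, ← map_mul, hsn, map_one]) ?_
    intro h1
    obtain ⟨u, hu, hu1⟩ := hne
    have h3 := hyinv u hu
    rw [h1, one_mul, inv_one, mul_one] at h3
    exact hu1 h3
  · intro u hu
    obtain ⟨a, rfl⟩ := (hmem u).1 hu
    refine ⟨Phi FG N hf (up (a / 2)), (hmem _).2 ⟨_, rfl⟩, ?_⟩
    rw [hadd]
    congr 2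
    field_simp
    ring

end Node

/-! ### `²E₆(q)` -/

section E6

open Cfsg.Agent.Nodes.RGDTwE6 Cfsg.Agent.Nodes.RGDTwComE6 Cfsg.Agent.Nodes.RGDTwActE6
open Cfsg.Agent.H255.Inv (ConnJ)

variable {K : Type} [Field K] [Fintype K] {q : ℕ} {φ : K →+* K}

theorem pair_E6 (h2 : (2 : K) ≠ 0) (hφ : ∀ x, φ x = x ^ q) (hqq : ∀ t : K, (t ^ q) ^ q = t) {i j : Fin 4}
    (hij : (i = 0 ∧ j = 1) ∨ (i = 1 ∧ j = 0) ∨ (i = 2 ∧ j = 1) ∨ (i = 2 ∧ j = 3) ∨ (i = 3 ∧ j = 2)) :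
    Pair (Nodes.RGDTwE6.X φ q) i j := by
  obtain ⟨p, hp'⟩ := CharP.exists K
  have : Fact p.Prime := ⟨CharP.char_is_prime K p⟩
  have R := Nodes.RGDTwE6.rgd (K := K) CoxeterMatrix.F₄.toCoxeterSystem hφ hqq p
  have hf : ∀ i, ∀ s ∈ Nodes.RGDTwNode.E6.rep i :: Nodes.RGDTwNode.E6.rest i, ∀ t : K,
      ((TwistedE6Sigma.eps s : ℤ) : K) * φ t = φ t :=
    fun i s hs t => by rw [Nodes.RGDTwNode.E6.eps_one i s hs, Int.cast_one, one_mul]
  have key : ∀ i j : Fin 4, (∀ k ∈ (Nodes.RGDTwE6.J j).map (fun k : Fin 6 => (k : ℕ)), k < chevE6.rank) →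
      (∀ s ∈ Nodes.RGDTwNode.E6.rep i :: Nodes.RGDTwNode.E6.rest i,
        Odd (((Nodes.RGDTwE6.J j).map (fun k : Fin 6 => (k : ℕ))).map fun k => chevE6.cartan k s).sum) →
      Pair (Nodes.RGDTwE6.X φ q) i j := by
    intro i j h1 h3
    exact pair_fold h2 (Nodes.RGDTwE6.foldGrp hφ hqq) (Nodes.RGDTwNode.E6.nodeOK i)
      (hf i) R (Nodes.RGDTwNode.E6.nodeOK j) (hf j) h1 h3
  rcases hij with ⟨rfl, rfl⟩ | ⟨rfl, rfl⟩ | ⟨rfl, rfl⟩ | ⟨rfl, rfl⟩ | ⟨rfl, rfl⟩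
  · exact key 0 1 (by decide +kernel) (by decide +kernel)
  · exact key 1 0 (by decide +kernel) (by decide +kernel)
  · exact key 2 1 (by decide +kernel) (by decide +kernel)
  · exact key 2 3 (by decide +kernel) (by decide +kernel)
  · exact key 3 2 (by decide +kernel) (by decide +kernel)

/-- the adjacent pairs of nodes -/
theorem adj_E6 : ∀ i j : Fin 4, j ≠ i → CoxeterMatrix.F₄ i j ≠ 2 →
    (i = 1 ∧ j = 2) ∨ ((i = 0 ∧ j = 1) ∨ (i = 1 ∧ j = 0) ∨ (i = 2 ∧ j = 1) ∨ (i = 2 ∧ j = 3) ∨ (i = 3 ∧ j = 2)) := by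
  intro i j h1 h2
  have h3 : Nodes.RGDTwE6.A i j ≠ 0 := by
    rcases Nodes.RGDTwE6.isCartan.rel i j h1.symm with h | h | ⟨-, h | h⟩ | ⟨-, h | h⟩
    · exact (h2 h.1).elim
    all_goals omega
  revert h1 h3
  clear h2
  revert i j
  decide +kernel

theorem exists_nb {m : ℕ} {M : CoxeterMatrix (Fin m)} {J : Set (Fin m)} (hJ : J.Nontrivial) (hc : ConnJ M J)
    {i : Fin m} (hi : i ∈ J) : ∃ j ∈ J, j ≠ i ∧ M i j ≠ 2 := by
  obtain ⟨a, ha, b, hb, hbK, hab⟩ := hc {i} (by rintro _ rfl; exact hi) ⟨i, rfl⟩ (by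
    intro h
    rw [← h] at hJ
    exact (Set.not_nontrivial_singleton hJ).elim)
  have : a = i := ha
  subst this
  exact ⟨b, hb, hbK, hab⟩

/-- `M_J` of `²E₆(q)` -/
noncomputable abbrev ME (φ : K →+* K) (q : ℕ) (J : Set (Fin 4)) : Subgroup ↥(twistedE6 K q) :=
  MJ CoxeterMatrix.F₄.toCoxeterSystem Nodes.RGDTwE6.isCartan (Nodes.RGDTwE6.X φ q) J

theorem step_pair {J : Set (Fin 4)} {i j : Fin 4} (hi : i ∈ J) (hj : j ∈ J) (h : Pair (Nodes.RGDTwE6.X φ q) i j) :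
    Nodes.RGDTwE6.X φ q (sr i) ≤ ⁅ME φ q J, ME φ q J⁆ := by
  obtain ⟨⟨y, hy, -, hyi⟩, hsq, -⟩ := h
  intro u hu
  obtain ⟨v, hv, rfl⟩ := hsq u hu
  have hyM : y ∈ ME φ q J := (sup_le (X_sr_le hj) (X_neg_le hj)) hy
  have hvM : v⁻¹ ∈ ME φ q J := inv_mem (X_sr_le hi hv)
  have e : ⁅y, v⁻¹⁆ = v * v := by
    rw [commutatorElement_def, inv_inv]
    have h1 := hyi v⁻¹ (inv_mem hv)
    rw [inv_inv] at h1
    rw [h1]
  rw [← e]
  exact Subgroup.commutator_mem_commutator hyM hvM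

/-- **A non-central involution in `M_J`.** -/
theorem comp_invol_twE6 (h2 : (2 : K) ≠ 0) (hφ : ∀ x, φ x = x ^ q) (hqq : ∀ t : K, (t ^ q) ^ q = t)
    {J : Set (Fin 4)} (hJ : J.Nontrivial) (hc : ConnJ CoxeterMatrix.F₄ J) :
    ∃ y ∈ ME φ q J, orderOf y = 2 ∧ ∃ a ∈ ME φ q J, y * a ≠ a * y := by
  have key : ∀ i ∈ J, ∀ j ∈ J, Pair (Nodes.RGDTwE6.X φ q) i j →
      ∃ y ∈ ME φ q J, orderOf y = 2 ∧ ∃ a ∈ ME φ q J, y * a ≠ a * y := by
    rintro i hi j hj ⟨⟨y, hy, hy2, hyi⟩, -, u, hu, hu1⟩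
    refine ⟨y, (sup_le (X_sr_le hj) (X_neg_le hj)) hy, hy2, u, X_sr_le hi hu, fun h => hu1 ?_⟩
    rw [← hyi u hu, h, mul_inv_cancel_right]
  obtain ⟨i, hi⟩ := hJ.nonempty
  obtain ⟨j, hj, hij, hM⟩ := exists_nb hJ hc hi
  rcases adj_E6 i j hij hM with ⟨rfl, rfl⟩ | h
  · exact key 2 hj 1 hi (pair_E6 h2 hφ hqq (by decide))
  · exact key i hi j hj (pair_E6 h2 hφ hqq h)

theorem N_eq : N (sr 2) (sr 1 + sr 2) = 1 ∨ N (sr 2) (sr 1 + sr 2) = -1 := by decide +kernel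

/-- **`M_J` is perfect.** -/
theorem comp_perf_twE6 (h2 : (2 : K) ≠ 0) (hφ : ∀ x, φ x = x ^ q) (hqq : ∀ t : K, (t ^ q) ^ q = t)
    {J : Set (Fin 4)} (hJ : J.Nontrivial) (hc : ConnJ CoxeterMatrix.F₄ J) :
    ⁅ME φ q J, ME φ q J⁆ = ME φ q J := by
  obtain ⟨p, hp'⟩ := CharP.exists K
  have : Fact p.Prime := ⟨CharP.char_is_prime K p⟩
  have R := Nodes.RGDTwE6.rgd (K := K) CoxeterMatrix.F₄.toCoxeterSystem hφ hqq p
  have : Finite CoxeterMatrix.F₄.Group := Nodes.RGDFold.finite_W (hp := Nodes.RGDTwE6.hp)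
    CoxeterMatrix.F₄.toCoxeterSystem Nodes.RGDTwE6.isCartan Nodes.RGDTwE6.foldData
  refine perf_of_simple R fun i hi => ?_
  obtain ⟨j, hj, hij, hM⟩ := exists_nb hJ hc hi
  rcases adj_E6 i j hij hM with ⟨rfl, rfl⟩ | h
  · -- the special pair
    have h2le := step_pair (J := J) hj hi (pair_E6 (i := 2) (j := 1) h2 hφ hqq (by decide))
    have r2 : IsRoot CoxeterMatrix.F₄.toCoxeterSystem Nodes.RGDTwE6.isCartan (sr 2) := isRoot_sr _ _ 2
    have r1 : IsRoot CoxeterMatrix.F₄.toCoxeterSystem Nodes.RGDTwE6.isCartan (sr 1) := isRoot_sr _ _ 1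
    have e12 : rep CoxeterMatrix.F₄.toCoxeterSystem Nodes.RGDTwE6.isCartan
        (CoxeterMatrix.F₄.toCoxeterSystem.simple 1) (sr 2) = sr 1 + sr 2 := by
      rw [rep_simple_eq]
      decide +kernel
    have e21 : rep CoxeterMatrix.F₄.toCoxeterSystem Nodes.RGDTwE6.isCartan
        (CoxeterMatrix.F₄.toCoxeterSystem.simple 2) (sr 2 + (sr 1 + sr 2)) = sr 1 := by
      rw [rep_simple_eq]
      decide +kernel
    have e21' : rep CoxeterMatrix.F₄.toCoxeterSystem Nodes.RGDTwE6.isCartan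
        (CoxeterMatrix.F₄.toCoxeterSystem.simple 2) (sr 1) = sr 2 + (sr 1 + sr 2) := by
      rw [rep_simple_eq]
      decide +kernel
    have r12 : IsRoot CoxeterMatrix.F₄.toCoxeterSystem Nodes.RGDTwE6.isCartan (sr 1 + sr 2) := e12 ▸ r2.act _
    have r122 : IsRoot CoxeterMatrix.F₄.toCoxeterSystem Nodes.RGDTwE6.isCartan (sr 2 + (sr 1 + sr 2)) :=
      e21' ▸ r1.act _
    have s2 : St (sr 2) := by decide +kernel
    have s12 : St (sr 1 + sr 2) := by decide +kernel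
    have l122 : Lg (sr 2 + (sr 1 + sr 2)) := by decide +kernel
    have h12le : Nodes.RGDTwE6.X φ q (sr 1 + sr 2) ≤ ⁅ME φ q J, ME φ q J⁆ := by
      have := step_n R hi r2 h2le
      rwa [e12] at this
    have h122le : Nodes.RGDTwE6.X φ q (sr 2 + (sr 1 + sr 2)) ≤ ⁅ME φ q J, ME φ q J⁆ := by
      intro g hg
      obtain ⟨c, hc1, rfl⟩ := (mem_X_long hφ hqq r122 l122 g).1 hg
      have hN : ((N (sr 2) (sr 1 + sr 2) : ℤ) : K) * ((N (sr 2) (sr 1 + sr 2) : ℤ) : K) = 1 := by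
        rcases N_eq with h | h <;> rw [h] <;> push_cast <;> ring
      have h1 := comm_trace hφ hqq r2 r12 r122 s2 s12 l122 1 (((N (sr 2) (sr 1 + sr 2) : ℤ) : K) * c / 2)
      have h3 : ((N (sr 2) (sr 1 + sr 2) : ℤ) : K) * (1 * φ (((N (sr 2) (sr 1 + sr 2) : ℤ) : K) * c / 2) +
          φ 1 * (((N (sr 2) (sr 1 + sr 2) : ℤ) : K) * c / 2)) = c := by
        rw [map_div₀, map_mul, map_intCast, hc1, map_one, map_ofNat]
        have : ((N (sr 2) (sr 1 + sr 2) : ℤ) : K) * (1 * (((N (sr 2) (sr 1 + sr 2) : ℤ) : K) * c / 2) +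
          1 * (((N (sr 2) (sr 1 + sr 2) : ℤ) : K) * c / 2)) =
          (((N (sr 2) (sr 1 + sr 2) : ℤ) : K) * ((N (sr 2) (sr 1 + sr 2) : ℤ) : K)) * c := by
          field_simp
          ring
        rw [this, hN, one_mul]
      rw [h3] at h1
      rw [← h1]
      refine Subgroup.commutator_mem_commutator ?_ ?_
      · exact Subgroup.commutator_le_self _ (h2le (x_mem hφ hqq r2 (ok_one _)))
      · exact Subgroup.commutator_le_self _ (h12le ((mem_X_short hφ hqq r12 s12 _).2 ⟨_, rfl⟩))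
    have := step_n R hj r122 h122le
    rwa [e21] at this
  · exact step_pair hi hj (pair_E6 h2 hφ hqq h)

end E6

end Cfsg.Agent.H434.Inv
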