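import Cfsg.Agent.H255.Inv.Face

/-!
# `M_J` is perfect as soon as its simple root groups lie in the commutator subgroup (helper434, S3830)
-/

set_option autoImplicit false
set_option linter.unusedSectionVars false

namespace Cfsg.Agent.H434.Inv

open Cfsg CoxeterSystem Cfsg.Agent.ChevalleyStructure.CoxeterGeom Cfsg.Agent.Tits.Roots Cfsg.Agent.Tits.Core
  Cfsg.Agent.Nodes.Reps Cfsg.Agent.Nodes.BNOf Cfsg.Agent.Nodes.StabComb Cfsg.Agent.Nodes.Bruhat
  Cfsg.Agent.Nodes.LeviDec Cfsg.Agent.H53.HC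
open scoped commutatorElement

section

variable {I W Y : Type*} [Fintype I] [DecidableEq I] [Group W] [Group Y] {M : CoxeterMatrix I}
  {cs : CoxeterSystem M W} {A : I → I → ℤ} {h : IsCartan M A} {p : ℕ} {T : Subgroup Y} {n : I → Y}
  {X : (I → ℤ) → Subgroup Y}

theorem sr_mem {J : Set I} {j : I} (hj : j ∈ J) : sr j ∈ RootsJ cs h J := PosJ_subset J (sr_mem_PosJ hj)

theorem X_sr_le {J : Set I} {j : I} (hj : j ∈ J) : X (sr j) ≤ MJ cs h X J := RGD.le_Sup (sr_mem hj)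

theorem X_neg_le {J : Set I} {j : I} (hj : j ∈ J) : X (-sr j) ≤ MJ cs h X J := RGD.le_Sup (RootsJ.neg (sr_mem hj))

/-- the commutator subgroup of `M_J` is normalised by `M_J` -/
theorem comm_conj {J : Set I} {m d : Y} (hm : m ∈ MJ cs h X J) (hd : d ∈ ⁅MJ cs h X J, MJ cs h X J⁆) :
    m * d * m⁻¹ ∈ ⁅MJ cs h X J, MJ cs h X J⁆ := by
  have h1 : ⁅MJ cs h X J, MJ cs h X J⁆ ≤ MJ cs h X J := Subgroup.commutator_le_self _
  have h2 : m * d * m⁻¹ = ⁅m, d⁆ * d := by rw [commutatorElement_def]; group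
  rw [h2]
  exact mul_mem (Subgroup.commutator_mem_commutator hm (h1 hd)) hd

variable (R : RGD cs h p T n X)

include R

/-- ... and by `T` -/
theorem comm_conj_T {J : Set I} {t d : Y} (ht : t ∈ T) (hd : d ∈ ⁅MJ cs h X J, MJ cs h X J⁆) :
    t * d * t⁻¹ ∈ ⁅MJ cs h X J, MJ cs h X J⁆ := by
  have h1 := T_le_normalizer_MJ R J ht
  have h2 : (⁅MJ cs h X J, MJ cs h X J⁆).map (MulAut.conj t).toMonoidHom = ⁅MJ cs h X J, MJ cs h X J⁆ := by
    rw [Subgroup.map_commutator]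
    have h3 : (MJ cs h X J).map (MulAut.conj t).toMonoidHom = MJ cs h X J := by
      ext g
      rw [Subgroup.mem_map]
      constructor
      · rintro ⟨a, ha, rfl⟩
        exact (Subgroup.mem_normalizer_iff.1 h1 a).1 ha
      · intro hg
        refine ⟨t⁻¹ * g * t, (Subgroup.mem_normalizer_iff.1 h1 _).2 (by
          have e : t * (t⁻¹ * g * t) * t⁻¹ = g := by group
          rwa [e]), ?_⟩
        show t * (t⁻¹ * g * t) * t⁻¹ = g
        group
    rw [h3]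
  rw [← h2]
  exact ⟨d, hd, rfl⟩

/-- `n i` is a product of an element of `T` and an element of `M_J` -/
theorem n_eq {J : Set I} {i : I} (hi : i ∈ J) : ∃ t ∈ T, ∃ m ∈ MJ cs h X J, n i = t * m := by
  obtain ⟨u, hu, hu1⟩ := (Subgroup.bot_or_exists_ne_one (X (-sr i))).resolve_left
    (X_ne_bot R (isRoot_sr cs h i).neg)
  obtain ⟨a, ha, t, ht, b, hb, e⟩ := R.rk1 i u hu hu1
  refine ⟨t⁻¹, inv_mem ht, a⁻¹ * u * b⁻¹, mul_mem (mul_mem (inv_mem (X_sr_le hi ha)) (X_neg_le hi hu))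
    (inv_mem (X_sr_le hi hb)), ?_⟩
  rw [e]
  group

theorem comm_conj_n {J : Set I} {i : I} (hi : i ∈ J) {d : Y} (hd : d ∈ ⁅MJ cs h X J, MJ cs h X J⁆) :
    n i * d * (n i)⁻¹ ∈ ⁅MJ cs h X J, MJ cs h X J⁆ := by
  obtain ⟨t, ht, m, hm, e⟩ := n_eq R hi
  have h1 := comm_conj_T R ht (comm_conj hm hd)
  have h2 : n i * d * (n i)⁻¹ = t * (m * d * m⁻¹) * t⁻¹ := by rw [e]; group
  rw [h2]
  exact h1

theorem step_n {J : Set I} {i : I} (hi : i ∈ J) {x : I → ℤ} (hx : IsRoot cs h x)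
    (hX : X x ≤ ⁅MJ cs h X J, MJ cs h X J⁆) : X (rep cs h (cs.simple i) x) ≤ ⁅MJ cs h X J, MJ cs h X J⁆ := by
  intro g hg
  rw [← R.conj i x hx, mem_cj] at hg
  have h1 := comm_conj_n R hi (hX hg)
  have e : n i * ((n i)⁻¹ * g * n i) * (n i)⁻¹ = g := by group
  rwa [e] at h1

/-- **`M_J` is perfect** if its simple root groups lie in the commutator subgroup. -/
theorem perf_of_simple [Finite W] {J : Set I} (hs : ∀ i ∈ J, X (sr i) ≤ ⁅MJ cs h X J, MJ cs h X J⁆) :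
    ⁅MJ cs h X J, MJ cs h X J⁆ = MJ cs h X J := by
  refine le_antisymm (Subgroup.commutator_le_self _) ?_
  refine RGD.Sup_le fun x hx => ?_
  obtain ⟨w, hw, j, hj, rfl⟩ := exists_of_mem_RootsJ hx
  have key : ∀ w ∈ WJ cs J, ∀ y, IsRoot cs h y → (X y ≤ ⁅MJ cs h X J, MJ cs h X J⁆ ↔
      X (rep cs h w y) ≤ ⁅MJ cs h X J, MJ cs h X J⁆) := by
    intro w hw
    refine Subgroup.closure_induction (p := fun w _ => ∀ y, IsRoot cs h y →
      (X y ≤ ⁅MJ cs h X J, MJ cs h X J⁆ ↔ X (rep cs h w y) ≤ ⁅MJ cs h X J, MJ cs h X J⁆)) ?_ ?_ ?_ ?_ hw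
    · rintro _ ⟨i, hi, rfl⟩ y hy
      refine ⟨step_n R hi hy, fun h' => ?_⟩
      have h1 := step_n R hi (hy.act _) h'
      rwa [← rep_mul_apply, simple_mul_simple_self, map_one, Module.End.one_apply] at h1
    · intro y _
      rw [map_one, Module.End.one_apply]
    · intro v w _ _ hv hw y hy
      rw [rep_mul_apply]
      exact (hw y hy).trans (hv _ (hy.act w))
    · intro v _ hv y hy
      have h1 := hv _ (hy.act v⁻¹)
      rw [← rep_mul_apply, mul_inv_cancel, map_one, Module.End.one_apply] at h1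
      exact h1.symm
  exact (key w hw _ (isRoot_sr _ _ j)).1 (hs j hj)

end

end Cfsg.Agent.H434.Inv
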